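import Groth.Agent.GrLib8.FaltingsDual.Rows
import Groth.Agent.S6284
import Groth.Agent.S0543
import Mathlib.RingTheory.AdicCompletion.AsTensorProduct

/-!
# Depth and dimension along flat maps through dualizing complexes
-/

set_option autoImplicit false
set_option linter.style.haveILetI false
set_option backward.isDefEq.respectTransparency false

universe u

open CategoryTheory IsLocalRing
open scoped TensorProduct

attribute [local instance] HasDerivedCategory.standard

namespace Groth.Agent.GrLib8.FaltingsDual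

open KFlatLib

/-- A covering-additive degree function computes the length of intervals. -/
theorem sub_le_height {A : Type u} [CommRing A] [IsNoetherianRing A] {n : PrimeSpectrum A → ℤ}
    (hcov : ∀ p q : PrimeSpectrum A, p ⋖ q → n q = n p + 1) (k : ℕ∞) :
    ∀ (q : PrimeSpectrum A), q.asIdeal.height = k → ∀ (p : PrimeSpectrum A) (h : p ≤ q),
      ((n q - n p).toNat : ℕ∞) ≤ Order.height (⟨q, h⟩ : Set.Ici p) := by
  induction k using WellFoundedLT.induction with
  | _ k ih =>
    intro q hk p hpq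
    rcases hpq.eq_or_lt with rfl | hlt
    · simp
    obtain ⟨r, ⟨hr, hpr, hrq⟩, hmax⟩ := set_has_maximal_iff_noetherian.2 (‹IsNoetherianRing A› : IsNoetherian A A)
      {r : Ideal A | r.IsPrime ∧ p.asIdeal ≤ r ∧ r < q.asIdeal} ⟨p.asIdeal, p.isPrime, le_rfl, hlt⟩
    let r' : PrimeSpectrum A := ⟨r, hr⟩
    have hrc : r' ⋖ q := ⟨hrq, fun s h1 h2 => hmax s.asIdeal ⟨s.isPrime, hpr.trans h1.le, h2⟩ h1⟩
    have h2 := ih (Ideal.height r) (hk ▸ Ideal.height_strict_mono_of_isPrime (I := r) hrq) r' rfl p hpr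
    have h3 : (⟨r', hpr⟩ : Set.Ici p) < ⟨q, hpq⟩ := hrq
    refine le_trans ?_ (Order.height_add_one_le h3)
    refine le_trans ?_ (add_le_add h2 le_rfl)
    have h4 := hcov r' q hrc
    exact_mod_cast (show (n q - n p).toNat ≤ (n r' - n p).toNat + 1 by omega)

theorem height_eq_sub {A : Type u} [CommRing A] [IsNoetherianRing A] {n : PrimeSpectrum A → ℤ}
    (hmono : StrictMono n) (hcov : ∀ p q : PrimeSpectrum A, p ⋖ q → n q = n p + 1) (p q : PrimeSpectrum A)
    (h : p ≤ q) : Order.height (⟨q, h⟩ : Set.Ici p) = ((n q - n p).toNat : ℕ∞) :=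
  le_antisymm (height_le_of_strictMono hmono p q h) (sub_le_height hcov _ q rfl p h)

variable {A B : Type u} [CommRing A] [IsNoetherianRing A] [CommRing B] [IsNoetherianRing B] [Algebra A B]
  [Module.Flat A B] [DTen.HasLBase (algebraMap A B)] {ω : Dual.D A} {n : PrimeSpectrum A → ℤ}

omit [IsNoetherianRing B] in
/-- Supports of Ext into the base change. -/
theorem support_hom_LBase (hω : Dual.IsDualizing A ω) (M : Type u) [AddCommGroup M] [Module A M]
    [Module.Finite A M] (N : Type u) [AddCommGroup N] [Module B N] (e : (B ⊗[A] M) ≃ₗ[B] N) (i : ℤ)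
    (q' : PrimeSpectrum B) :
    q' ∈ Module.support B (Dual.inD B N ⟶ ((DTen.LBase (algebraMap A B)).obj ω)⟦i⟧) ↔
      PrimeSpectrum.comap (algebraMap A B) q' ∈ Module.support A (Dual.inD A M ⟶ ω⟦i⟧) := by
  obtain ⟨a, b, -, _, _⟩ := exists_bounds_of_isDualizing hω
  obtain ⟨_, ⟨e₁⟩⟩ := exists_LBase_map_iso (B := B) (Dual.inD A M)
  obtain ⟨c⟩ := exists_extendLEquiv (B := B) (ModuleCat.of A M)
  let eI : (DTen.LBase (algebraMap A B)).obj (Dual.inD A M) ≅ Dual.inD B N :=
    e₁ ≪≫ ((ModuleCat.extendScalars.{u, u, u} (algebraMap A B)).mapDerivedCategorySingleFunctor 0).app _ ≪≫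
      (DerivedCategory.singleFunctor (ModuleCat.{u} B) 0).mapIso (c.trans e).toModuleIso
  obtain ⟨eh⟩ := exists_homBaseChangeLEquiv (B := B) (X := Dual.inD A M) (Y := ω)
    ((Groth.Agent.S6942.result A 0 ω M).2.2 inferInstance) a i
  haveI := finite_hom_module ω a hω.finite_cohomology M i
  let f : (Dual.inD B N ⟶ ((DTen.LBase (algebraMap A B)).obj ω)⟦i⟧) ≃ₗ[B] B ⊗[A] (Dual.inD A M ⟶ ω⟦i⟧) :=
    (Linear.homCongr B eI.symm (Iso.refl _)).trans eh
  rw [f.support_eq]
  obtain ⟨X', _, _, _, ⟨e'⟩⟩ := KFlatLib.exists_small_copy (A := A) (Dual.inD A M ⟶ ω⟦i⟧)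
  rw [(LinearEquiv.baseChange A B _ _ e').support_eq, e'.support_eq, S6284.result X']
  rfl

/-- Depth minus degree is preserved. -/
theorem depth_degree (hω : Dual.IsDualizing A ω) (hn : IsExtDegree ω n)
    (hB : Dual.IsDualizing B ((DTen.LBase (algebraMap A B)).obj ω)) {n' : PrimeSpectrum B → ℤ}
    (hn' : IsExtDegree ((DTen.LBase (algebraMap A B)).obj ω) n') (M : Type u) [AddCommGroup M] [Module A M]
    [Module.Finite A M] (N : Type u) [AddCommGroup N] [Module B N] (e : (B ⊗[A] M) ≃ₗ[B] N)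
    (q' : PrimeSpectrum B) (hq : PrimeSpectrum.comap (algebraMap A B) q' ∈ Module.support A M) :
    ∃ δ δ' : ℕ,
      LocCoh.depth (Localization.AtPrime (q'.asIdeal.comap (algebraMap A B)))
        (LocalizedModule (q'.asIdeal.comap (algebraMap A B)).primeCompl M) = δ ∧
      LocCoh.depth (Localization.AtPrime q'.asIdeal) (LocalizedModule q'.asIdeal.primeCompl N) = δ' ∧
      n' q' - δ' = n (PrimeSpectrum.comap (algebraMap A B) q') - δ := by
  haveI : Module.Finite B N := Module.Finite.equiv e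
  let q := PrimeSpectrum.comap (algebraMap A B) q'
  obtain ⟨δ, d, hδ, hd⟩ := exists_depth_dim q M hq
  have hq' : q' ∈ Module.support B N := by
    rw [← e.support_eq, S6284.result M]
    exact hq
  obtain ⟨δ', d', hδ', hd'⟩ := exists_depth_dim q' N hq'
  obtain ⟨h1, -, h3⟩ := localized_ext_range hω hn q M δ d hδ hd
  obtain ⟨h1', -, h3'⟩ := localized_ext_range hB hn' q' N δ' d' hδ' hd'
  refine ⟨δ, δ', hδ, hδ', le_antisymm (h1 _ ((support_hom_LBase hω M N e _ q').1 h3')).2 ?_⟩
  exact (h1' _ ((support_hom_LBase hω M N e _ q').2 h3)).2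

omit [IsNoetherianRing A] in
theorem depth_quotient_eq_zero {R : Type u} [CommRing R] [IsNoetherianRing R] (q : Ideal R) [hq : q.IsPrime] :
    LocCoh.depth (Localization.AtPrime q) (LocalizedModule q.primeCompl (R ⧸ q)) = 0 := by
  by_contra hne
  refine (Groth.Agent.Alg6.one_le_depth_atPrime_iff (M := R ⧸ q) q).1 (ENat.one_le_iff_ne_zero.2 hne) ?_
  refine Groth.Agent.Alg6.mem_ass_iff.2 ⟨hq, Ideal.Quotient.mk q 1, fun a => ?_⟩
  rw [← Ideal.Quotient.mk_eq_mk, ← Submodule.Quotient.mk_smul, smul_eq_mul, mul_one, Submodule.Quotient.mk_eq_zero]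

/-- Degrees agree where the map is an isomorphism modulo the prime. -/
theorem degree_eq (hω : Dual.IsDualizing A ω) (hn : IsExtDegree ω n)
    (hB : Dual.IsDualizing B ((DTen.LBase (algebraMap A B)).obj ω)) {n' : PrimeSpectrum B → ℤ}
    (hn' : IsExtDegree ((DTen.LBase (algebraMap A B)).obj ω) n') (q' : PrimeSpectrum B)
    (hq' : q'.asIdeal = (q'.asIdeal.comap (algebraMap A B)).map (algebraMap A B)) :
    n' q' = n (PrimeSpectrum.comap (algebraMap A B) q') := by
  let q := PrimeSpectrum.comap (algebraMap A B) q'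
  let N := B ⧸ q'.asIdeal
  let e : (B ⊗[A] (A ⧸ q.asIdeal)) ≃ₗ[B] N :=
    (Algebra.TensorProduct.quotIdealMapEquivTensorQuot B q.asIdeal).symm.toLinearEquiv.trans
      (Submodule.quotEquivOfEq _ _ hq'.symm)
  obtain ⟨δ, δ', hδ, hδ', h⟩ := depth_degree hω hn hB hn' (A ⧸ q.asIdeal) N e q' (by
    rw [Module.support_eq_zeroLocus, Ideal.annihilator_quotient]; exact (PrimeSpectrum.mem_zeroLocus _ _).2 subset_rfl)
  haveI := q.isPrime
  have h0 : (δ : ℕ∞) = 0 := hδ.symm.trans (depth_quotient_eq_zero q.asIdeal)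
  have h0' : (δ' : ℕ∞) = 0 := hδ'.symm.trans (depth_quotient_eq_zero q'.asIdeal)
  have h00 : δ = 0 := by exact_mod_cast h0
  have h00' : δ' = 0 := by exact_mod_cast h0'
  omega

/-- Degrees only grow. -/
theorem degree_le (hω : Dual.IsDualizing A ω) (hn : IsExtDegree ω n)
    (hB : Dual.IsDualizing B ((DTen.LBase (algebraMap A B)).obj ω)) {n' : PrimeSpectrum B → ℤ}
    (hn' : IsExtDegree ((DTen.LBase (algebraMap A B)).obj ω) n') (q' : PrimeSpectrum B) :
    n (PrimeSpectrum.comap (algebraMap A B) q') ≤ n' q' := by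
  let q := PrimeSpectrum.comap (algebraMap A B) q'
  obtain ⟨δ, δ', hδ, hδ', h⟩ := depth_degree hω hn hB hn' (A ⧸ q.asIdeal) _ (LinearEquiv.refl B _) q' (by
    rw [Module.support_eq_zeroLocus, Ideal.annihilator_quotient]; exact (PrimeSpectrum.mem_zeroLocus _ _).2 subset_rfl)
  haveI := q.isPrime
  have h0 : (δ : ℕ∞) = 0 := hδ.symm.trans (depth_quotient_eq_zero q.asIdeal)
  have h00 : δ = 0 := by exact_mod_cast h0
  omega

/-- Depth and length of intervals in the completion. -/
theorem completion_depth (A : Type u) [CommRing A] [IsNoetherianRing A]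
    (hA : ∃ ω : Dual.D A, Dual.IsDualizing A ω) (I : Ideal A) (M : Type u) [AddCommGroup M] [Module A M]
    [Module.Finite A M] (p' q' : PrimeSpectrum (AdicCompletion I A)) (hpq : p' ≤ q')
    (hq : I.map (algebraMap A (AdicCompletion I A)) ≤ q'.asIdeal) :
    LocCoh.depth (Localization.AtPrime (p'.asIdeal.comap (algebraMap A (AdicCompletion I A))))
        (LocalizedModule (p'.asIdeal.comap (algebraMap A (AdicCompletion I A))).primeCompl M) ≤
      LocCoh.depth (Localization.AtPrime p'.asIdeal) (LocalizedModule p'.asIdeal.primeCompl (AdicCompletion I M)) ∧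
    ((LocCoh.depth (Localization.AtPrime p'.asIdeal) (LocalizedModule p'.asIdeal.primeCompl (AdicCompletion I M)) : ℕ∞) : WithBot ℕ∞) +
        Order.krullDim (Set.Icc p' q') =
      ((LocCoh.depth (Localization.AtPrime (p'.asIdeal.comap (algebraMap A (AdicCompletion I A))))
          (LocalizedModule (p'.asIdeal.comap (algebraMap A (AdicCompletion I A))).primeCompl M) : ℕ∞) : WithBot ℕ∞) +
        Order.krullDim (Set.Icc ((PrimeSpectrum.comap (algebraMap A (AdicCompletion I A))) p')
          ((PrimeSpectrum.comap (algebraMap A (AdicCompletion I A))) q')) := by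
  obtain ⟨ω, hω⟩ := hA
  let B := AdicCompletion I A
  haveI : IsNoetherianRing B := Groth.Agent.S0543.result A I
  haveI : Module.Flat A B := AdicCompletion.flat_of_isNoetherian I
  have hfg : I.FG := IsNoetherian.noetherian I
  haveI := AdicCompletion.isAdicComplete_self I hfg
  haveI := hasLBase (algebraMap A B)
  have hsurj : ∀ x : B ⧸ I.map (algebraMap A B), ∃ a : A, Ideal.Quotient.mk _ (algebraMap A B a) = x := fun x => by
    obtain ⟨y, rfl⟩ := Ideal.Quotient.mk_surjective x
    obtain ⟨a, ha⟩ := Ideal.Quotient.mk_surjective (AdicCompletion.evalOneₐ I y)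
    refine ⟨a, Ideal.Quotient.eq.2 ?_⟩
    rw [← AdicCompletion.ker_evalOneₐ_eq_map I hfg, RingHom.mem_ker, map_sub, sub_eq_zero]
    exact ((AdicCompletion.evalOneₐ I).commutes a).trans ha
  have hB : Dual.IsDualizing B ((DTen.LBase (algebraMap A B)).obj ω) :=
    isDualizing_LBase hω fun m hm => exists_map_eq_of_surjective I hsurj (IsAdicComplete.le_jacobson_bot _) m hm
  obtain ⟨n, hn, hcov, hmono, -⟩ := exists_extDegree hω
  obtain ⟨n', hn', hcov', hmono', -⟩ := exists_extDegree hB
  have hqmap : q'.asIdeal = (q'.asIdeal.comap (algebraMap A B)).map (algebraMap A B) := by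
    refine le_antisymm (fun y hy => ?_) Ideal.map_comap_le
    obtain ⟨a, ha⟩ := hsurj (Ideal.Quotient.mk _ y)
    have h1 : algebraMap A B a - y ∈ I.map (algebraMap A B) := Ideal.Quotient.eq.1 ha
    have ha' : a ∈ q'.asIdeal.comap (algebraMap A B) := by
      rw [Ideal.mem_comap]
      have := q'.asIdeal.add_mem (hq h1) hy
      rwa [sub_add_cancel] at this
    have h2 : I ≤ q'.asIdeal.comap (algebraMap A B) := Ideal.map_le_iff_le_comap.1 hq
    have h3 := Ideal.sub_mem _ (Ideal.mem_map_of_mem (algebraMap A B) ha') (Ideal.map_mono h2 h1)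
    rwa [sub_sub_cancel] at h3
  have hqq := degree_eq hω hn hB hn' q' hqmap
  have hpp := degree_le hω hn hB hn' p'
  let p := PrimeSpectrum.comap (algebraMap A B) p'
  let q := PrimeSpectrum.comap (algebraMap A B) q'
  have hpq0 : p ≤ q := Ideal.comap_mono hpq
  let e : (B ⊗[A] M) ≃ₗ[B] AdicCompletion I M := AdicCompletion.ofTensorProductEquivOfFiniteNoetherian I M
  haveI : Module.Finite B (AdicCompletion I M) := Module.Finite.equiv e
  rw [krullDim_Icc_eq p' q' hpq, krullDim_Icc_eq p q hpq0, height_eq_sub hmono' hcov' p' q' hpq,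
    height_eq_sub hmono hcov p q hpq0]
  have hmp : n p ≤ n q := hmono.monotone hpq0
  have hmp' : n' p' ≤ n' q' := hmono'.monotone hpq
  by_cases hs : p ∈ Module.support A M
  · obtain ⟨δ, δ', hδ, hδ', h⟩ := depth_degree hω hn hB hn' M _ e p' hs
    have h' : n' p' - δ' = n p - δ := h
    have hpp' : n p ≤ n' p' := hpp
    have hqq' : n' q' = n q := hqq
    rw [hδ, hδ', ← WithBot.coe_add, ← WithBot.coe_add]
    refine ⟨Nat.cast_le.2 (by omega), ?_⟩
    exact congrArg (WithBot.some) (by exact_mod_cast (show δ' + (n' q' - n' p').toNat = δ + (n q - n p).toNat by omega))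
  · have hs' : p' ∉ Module.support B (AdicCompletion I M) := by
      rw [← e.support_eq, S6284.result M]
      exact hs
    rw [Module.notMem_support_iff] at hs hs'
    haveI : Subsingleton (LocalizedModule (p'.asIdeal.comap (algebraMap A B)).primeCompl M) := hs
    have ht : LocCoh.depth (Localization.AtPrime (p'.asIdeal.comap (algebraMap A B)))
        (LocalizedModule (p'.asIdeal.comap (algebraMap A B)).primeCompl M) = ⊤ := by
      rw [LocCoh.depth, LocCoh.idealDepth, if_pos (Subsingleton.elim _ _)]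
    have ht' : LocCoh.depth (Localization.AtPrime p'.asIdeal)
        (LocalizedModule p'.asIdeal.primeCompl (AdicCompletion I M)) = ⊤ := by
      rw [LocCoh.depth, LocCoh.idealDepth, if_pos (Subsingleton.elim _ _)]
    rw [ht, ht']
    refine ⟨le_rfl, ?_⟩
    rw [← WithBot.coe_add, ← WithBot.coe_add, top_add, top_add]

end Groth.Agent.GrLib8.FaltingsDual
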