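import Groth.Agent.GrLib8.HTLib
import Groth.Agent.LC.AnnLocal
import Groth.Agent.LC.AdjDepth
import Groth.Agent.LC.FiniteCrit

/-!
# Annihilators of local cohomology with supports in a family, uniformly in the ideal
-/

set_option autoImplicit false
set_option linter.style.haveILetI false

universe u

open CategoryTheory
open scoped Pointwise

namespace Groth.Agent.GrLib8.FaltingsDual

open HTLib

variable {R : Type u} [CommRing R] [IsNoetherianRing R] {T : Set (PrimeSpectrum R)}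

theorem kill_of_list_uniform (T : Set (PrimeSpectrum R)) (s s₁ : R) (i : ℕ) (M : ModuleCat.{u} R)
    (b : Ideal R) (hb : ∀ a : Ideal R, PrimeSpectrum.zeroLocus (a : Set R) ⊆ T → b ≤ a →
      ∀ l ≤ i, ∀ z : (localCohomology a l).obj M, s₁ • z = 0) (xs : List R) :
    ∀ N : ℕ, ∃ k : ℕ, ∀ a : Ideal R, PrimeSpectrum.zeroLocus (a : Set R) ⊆ T →
      (∀ x ∈ xs, ∀ l ≤ i, ∀ z : (localCohomology a l).obj M, (x * s) ^ N • z = 0) →
      b ≤ a ⊔ Ideal.ofList xs →
      ∀ l ≤ i, ∀ z : (localCohomology a l).obj M, (s₁ * s ^ k) • z = 0 := by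
  induction xs with
  | nil =>
    intro N
    refine ⟨0, fun a ha _ h l hl z => ?_⟩
    rw [Ideal.ofList_nil, sup_bot_eq] at h
    rw [pow_zero, mul_one]
    exact hb a ha h l hl z
  | cons x xs ih =>
    intro N
    obtain ⟨k, hk⟩ := ih (N + N)
    refine ⟨k + N, fun a ha hx h l hl z => ?_⟩
    obtain ⟨hsurj, hnext⟩ := LC.kill_step a x s i N M (hx x List.mem_cons_self)
    obtain ⟨w, hw⟩ := hsurj l hl z
    have h' : b ≤ (a ⊔ Ideal.span {x}) ⊔ Ideal.ofList xs := by rwa [sup_assoc, ← Ideal.ofList_cons]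
    rw [pow_add, ← mul_assoc, mul_smul, ← hw, ← map_smul, hk (a ⊔ Ideal.span {x})
      ((PrimeSpectrum.zeroLocus_anti_mono_ideal (s := a) le_sup_left).trans ha)
      (fun y hy => hnext y (hx y (List.mem_cons_of_mem _ hy))) h' l hl w, map_zero]

/-- One ideal killing local cohomology for every ideal of the family. -/
theorem exists_kill_ideal (T T' : Set (PrimeSpectrum R)) (hT' : StableUnderSpecialization T') (i : ℕ)
    (M : ModuleCat.{u} R)
    (h : ∀ p : PrimeSpectrum R, p ∉ T' → ∃ s ∉ p.asIdeal, ∀ a : Ideal R, PrimeSpectrum.zeroLocus (a : Set R) ⊆ T →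
      p.asIdeal ≤ a → ∀ l ≤ i, ∀ z : (localCohomology a l).obj M, s • z = 0) :
    ∃ J : Ideal R, PrimeSpectrum.zeroLocus (J : Set R) ⊆ T' ∧ ∀ a : Ideal R,
      PrimeSpectrum.zeroLocus (a : Set R) ⊆ T → ∀ l ≤ i, ∀ x ∈ J, ∀ z : (localCohomology a l).obj M, x • z = 0 := by
  classical
  let K₀ : Ideal R := ⨅ (a : Ideal R) (_ : PrimeSpectrum.zeroLocus (a : Set R) ⊆ T),
    (Finset.range (i + 1)).inf fun l => Module.annihilator R ((localCohomology a l).obj M)
  have hK₀ : ∀ y, y ∈ K₀ ↔ ∀ a : Ideal R, PrimeSpectrum.zeroLocus (a : Set R) ⊆ T → ∀ l ≤ i,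
      ∀ z : (localCohomology a l).obj M, y • z = 0 := by
    intro y
    simp only [K₀, Submodule.mem_iInf, Submodule.mem_finsetInf, Finset.mem_range, Module.mem_annihilator]
    exact forall_congr' fun a => forall_congr' fun ha => forall_congr' fun l =>
      ⟨fun h hl => h (Nat.lt_succ_of_le hl), fun h hl => h (Nat.le_of_lt_succ hl)⟩
  refine ⟨K₀, fun P hP => ?_, fun a ha l hl x hx => (hK₀ x).1 hx a ha l hl⟩
  by_contra hPT
  obtain ⟨p, hp, hpP⟩ := Ideal.exists_minimalPrimes_le (J := P.asIdeal) (fun x hx => hP hx)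
  have hpp : p.IsPrime := hp.1.1
  have hpT : (⟨p, hpp⟩ : PrimeSpectrum R) ∉ T' := fun hc =>
    hPT (hT' ((PrimeSpectrum.le_iff_specializes (⟨p, hpp⟩ : PrimeSpectrum R) P).1 hpP) hc)
  have hpK : p ∈ K₀.radical.minimalPrimes := by rwa [Ideal.radical_minimalPrimes]
  let others := (Ideal.finite_minimalPrimes_of_isNoetherianRing R K₀).toFinset.erase p
  have hnot : ∀ Q ∈ others, ∃ c ∈ Q, c ∉ p := by
    intro Q hQ
    obtain ⟨hne, hQ'⟩ := Finset.mem_erase.1 hQ
    have hQm : Q ∈ K₀.minimalPrimes := (Ideal.finite_minimalPrimes_of_isNoetherianRing R K₀).mem_toFinset.1 hQ'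
    exact SetLike.not_le_iff_exists.1 fun hle => hne (le_antisymm hle (hp.2 hQm.1 hle))
  choose! c hc hcp using hnot
  let s := ∏ Q ∈ others, c Q
  have hs : s ∉ p := Submonoid.prod_mem p.primeCompl fun Q hQ => hcp Q hQ
  have hxs : ∀ x ∈ p, x * s ∈ K₀.radical := by
    intro x hx
    rw [← Ideal.sInf_minimalPrimes]
    refine Ideal.mem_sInf.2 fun Q hQ => ?_
    rcases eq_or_ne Q p with rfl | hne
    · exact Ideal.mul_mem_right _ _ hx
    · have hQo : Q ∈ others := Finset.mem_erase.2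
        ⟨hne, (Ideal.finite_minimalPrimes_of_isNoetherianRing R K₀).mem_toFinset.2 hQ⟩
      exact Ideal.mul_mem_left _ _ (Q.mem_of_dvd (Finset.dvd_prod_of_mem c hQo) (hc Q hQo))
  obtain ⟨g, hg⟩ := IsNoetherian.noetherian p
  choose! Nx hNx using fun x (hx : x ∈ g) => hxs x (by rw [← hg]; exact Submodule.subset_span hx)
  let N := g.sup Nx
  obtain ⟨s₁, hs₁, hk₁⟩ := h ⟨p, hpp⟩ hpT
  obtain ⟨k, hk⟩ := kill_of_list_uniform T s s₁ i M p hk₁ g.toList N
  have hofList : Ideal.ofList g.toList = p := by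
    rw [← hg]; exact congrArg Ideal.span (Set.ext fun z => Finset.mem_toList)
  have : s₁ * s ^ k ∈ K₀ := (hK₀ _).2 fun a ha l hl z => hk a ha (fun x hx m hm w => by
      have hle : Nx x ≤ N := Finset.le_sup (Finset.mem_toList.1 hx)
      rw [← Nat.sub_add_cancel hle, pow_add, mul_smul,
        (hK₀ _).1 (hNx x (Finset.mem_toList.1 hx)) a ha m hm w, smul_zero])
    (by rw [hofList]; exact le_sup_right) l hl z
  exact (p.primeCompl.mul_mem hs₁ (p.primeCompl.pow_mem hs k)) (hp.1.2 this)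

/-- Killing at every ideal of the family kills at the family. -/
theorem HT_kill_of_forall (i : ℕ) (M : ModuleCat.{u} R) (x : R)
    (h : ∀ a : Ideal R, PrimeSpectrum.zeroLocus (a : Set R) ⊆ T → ∀ z : (localCohomology a i).obj M, x • z = 0)
    (z : HTo T i M) : x • z = 0 := by
  obtain ⟨K, y, rfl⟩ := exists_tH i z
  rw [← map_smul]
  let u : LC.qObj (idl K) 1 ⟶ qO K := ModuleCat.ofHom (Submodule.mapQ _ _ LinearMap.id (by
    intro b hb
    rwa [pow_one] at hb))
  let y₁ := (Abelian.Ext.mk₀ u).comp y (zero_add i)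
  have h0 : LC.toH (idl K) i M 1 (x • y₁) = 0 := by rw [map_smul]; exact h _ (idl_zeroLocus K) _
  obtain ⟨m, hm, hy⟩ := (LC.toH_eq_zero_iff (idl K) i (x • y₁)).1 h0
  let K' : Idx T := mkIdx (idl K ^ m) (zeroLocus_pow_subset (idl_zeroLocus K) m)
  refine (tH_eq_zero_iff i _).2 ⟨K', mkArr (K := K) (K' := K') (Ideal.pow_le_self (by omega)), ?_⟩
  rw [LC.res_apply] at hy
  have hy' : (Abelian.Ext.mk₀ (LC.qMap (idl K) hm)).comp ((Abelian.Ext.mk₀ u).comp (x • y) (zero_add i)) (zero_add i) = 0 := by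
    rw [Abelian.Ext.comp_smul]
    exact hy
  rw [← Abelian.Ext.comp_assoc _ _ _ (zero_add 0) (zero_add i) (by simp), Abelian.Ext.mk₀_comp_mk₀] at hy'
  refine Eq.trans ?_ hy'
  show (Abelian.Ext.mk₀ (qA _)).comp (x • y) (zero_add i) = _
  congr 2
  ext
  rfl

omit [IsNoetherianRing R] in
/-- An element killing `H⁰_T` kills the torsion. -/
theorem smul_torsion_eq_zero (M : ModuleCat.{u} R) (b : R) (hb : ∀ z : HTo T 0 M, b • z = 0) (m : M) (K : Ideal R)
    (hK : PrimeSpectrum.zeroLocus (K : Set R) ⊆ T) (hm : ∀ a ∈ K, a • m = 0) : b • m = 0 := by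
  let g : qO (mkIdx K hK) ⟶ M := ModuleCat.ofHom (Submodule.liftQ K (LinearMap.toSpanSingleton R M m)
    (fun a ha => hm a ha))
  have h1 := hb (tH 0 M (mkIdx K hK) (Abelian.Ext.mk₀ g))
  rw [← map_smul, ← Abelian.Ext.mk₀_smul, tH_eq_zero_iff] at h1
  obtain ⟨K', a, ha⟩ := h1
  have h2 : (Abelian.Ext.mk₀ (qA a)).comp (Abelian.Ext.mk₀ (b • g)) (zero_add 0) = 0 := ha
  rw [Abelian.Ext.mk₀_comp_mk₀] at h2
  have h3 : qA a ≫ (b • g) = 0 := by
    simpa using congrArg Abelian.Ext.addEquiv₀ h2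
  have h4 := congrArg (fun t => t.hom (Submodule.Quotient.mk (1 : R))) h3
  change b • ((1 : R) • m) = 0 at h4
  rwa [one_smul] at h4

/-- The quotient by the torsion. -/
theorem exists_torsionQuot (M : Type u) [AddCommGroup M] [Module R M] [Module.Finite R M] :
    ∃ G : Submodule R M, (∀ b : R, (∀ z : HTo T 0 (ModuleCat.of R M), b • z = 0) → ∀ m ∈ G, b • m = 0) ∧
      (∀ z : HTo T 0 (ModuleCat.of R (M ⧸ G)), z = 0) ∧
      (∀ l, Function.Surjective
        ((localCohomology.ofDiagram.{u, u} (Dual2.idealsInDiagram T) (l + 1)).map (ModuleCat.ofHom G.mkQ)).hom) ∧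
      ∀ J : Ideal R, PrimeSpectrum.zeroLocus (J : Set R) ⊆ T → ∃ x ∈ J, IsSMulRegular (M ⧸ G) x := by
  let G : Submodule R M :=
    { carrier := {m | ∃ K : Ideal R, PrimeSpectrum.zeroLocus (K : Set R) ⊆ T ∧ ∀ a ∈ K, a • m = 0}
      zero_mem' := ⟨⊤, by simp, fun a _ => smul_zero a⟩
      add_mem' := fun ⟨K, hK, h⟩ ⟨K', hK', h'⟩ => ⟨K * K', zeroLocus_mul_subset hK hK', fun a ha => by
        rw [smul_add, h a (Ideal.mul_le_left ha), h' a (Ideal.mul_le_right ha), add_zero]⟩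
      smul_mem' := fun c _ ⟨K, hK, h⟩ => ⟨K, hK, fun a ha => by rw [smul_comm, h a ha, smul_zero]⟩ }
  haveI : Module.Finite R G := Module.Finite.iff_fg.2 (IsNoetherian.noetherian G)
  obtain ⟨K0, hK0, hkill⟩ := exists_kill_of_finite (T := T) (H := G) fun z => by
    obtain ⟨K, hK, h⟩ := z.2
    exact ⟨K, hK, fun a ha => Subtype.ext (h a ha)⟩
  have htf : ∀ y : M ⧸ G, (∃ K : Ideal R, PrimeSpectrum.zeroLocus (K : Set R) ⊆ T ∧ ∀ a ∈ K, a • y = 0) → y = 0 := by
    rintro y ⟨K, hK, hy⟩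
    obtain ⟨m, rfl⟩ := Submodule.Quotient.mk_surjective G y
    refine (Submodule.Quotient.mk_eq_zero G).2 ⟨K0 * K, zeroLocus_mul_subset hK0 hK, fun a ha => ?_⟩
    refine Submodule.mul_induction_on ha (fun b hb c hc => ?_) fun u v hu hv => by rw [add_smul, hu, hv, add_zero]
    have h1 := hy c hc
    rw [← Submodule.Quotient.mk_smul, Submodule.Quotient.mk_eq_zero] at h1
    rw [mul_smul]
    exact congrArg Subtype.val (hkill b hb ⟨_, h1⟩)
  refine ⟨G, fun b hb m ⟨K, hK, hm⟩ => smul_torsion_eq_zero (ModuleCat.of R M) b hb m K hK hm, ?_, fun l z => ?_, fun J hJ => ?_⟩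
  · obtain ⟨Φ, hΦ, hΦk⟩ := exists_injective_zero (T := T) (ModuleCat.of R (M ⧸ G))
    exact fun z => hΦ ((htf _ (hΦk z)).trans (map_zero _).symm)
  · let S : ShortComplex (ModuleCat.{u} R) := ShortComplex.mk (ModuleCat.ofHom G.subtype) (ModuleCat.ofHom G.mkQ)
      (ModuleCat.hom_ext (LinearMap.exact_subtype_mkQ G).linearMap_comp_eq_zero)
    have hS : S.ShortExact :=
      { exact := (ShortComplex.ShortExact.moduleCat_exact_iff_function_exact _).2 (LinearMap.exact_subtype_mkQ G)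
        mono_f := (ModuleCat.mono_iff_injective _).2 Subtype.val_injective
        epi_g := (ModuleCat.epi_iff_surjective _).2 G.mkQ_surjective }
    obtain ⟨K, y, rfl⟩ := exists_tH (l + 1) z
    obtain ⟨K', a, ha⟩ := exists_rs_eq_zero_of_killed (l + 1) S.X₁ K0 hK0 hkill (y.comp hS.extClass rfl)
    rw [rs_comp] at ha
    obtain ⟨v, hv⟩ := Abelian.Ext.covariant_sequence_exact₃ (qO K') hS _ rfl ha
    refine ⟨tH (l + 1) (ModuleCat.of R M) K' v, ?_⟩
    refine (tH_natural (l + 1) S.g v).trans ?_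
    rw [show v.comp (Abelian.Ext.mk₀ S.g) (add_zero (l + 1)) = rs (l + 1) a _ y from hv, tH_rs]
  · rw [Groth.Agent.Alg6.exists_isSMulRegular_mem_iff]
    intro p hp hle
    obtain ⟨hpp, z, hz⟩ := Groth.Agent.Alg6.mem_ass_iff.1 hp
    have hz0 : z = 0 := htf z ⟨J, hJ, fun a ha => (hz a).1 (hle ha)⟩
    exact hpp.ne_top ((Ideal.eq_top_iff_one p).2 ((hz 1).2 (by rw [hz0, smul_zero])))

theorem mul_kill {M : Type u} [AddCommGroup M] [Module R M] {I J : Ideal R}
    (h : ∀ b ∈ I, ∀ c ∈ J, ∀ z : M, (b * c) • z = 0) : ∀ x ∈ I * J, ∀ z : M, x • z = 0 := fun x hx z =>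
  Submodule.mul_induction_on hx (fun b hb c hc => h b hb c hc z) fun u v hu hv => by
    rw [add_smul, hu, hv, add_zero]

/-- Killing at the family kills at each ideal of the family, up to a power. -/
theorem exists_pow_kill_of_HT (l : ℕ) :
    ∃ N : ℕ, ∀ (M : Type u) [AddCommGroup M] [Module R M] [Module.Finite R M] (J a : Ideal R),
      PrimeSpectrum.zeroLocus (a : Set R) ⊆ T →
      (∀ j ≤ l, ∀ x ∈ J, ∀ z : HTo T j (ModuleCat.of R M), x • z = 0) →
      ∀ x ∈ J ^ N, ∀ z : (localCohomology a l).obj (ModuleCat.of R M), x • z = 0 := by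
  induction l with
  | zero =>
    refine ⟨1, fun M _ _ _ J a ha h x hx z => (LC.H0Equiv a (ModuleCat.of R M)).injective ?_⟩
    rw [pow_one] at hx
    rw [map_smul, map_zero]
    refine Subtype.ext ?_
    obtain ⟨n, hn⟩ := ((LC.H0Equiv a (ModuleCat.of R M)) z).2
    exact smul_torsion_eq_zero (ModuleCat.of R M) x (h 0 le_rfl x hx) _ (a ^ n) (zeroLocus_pow_subset ha n) hn
  | succ l ih =>
    obtain ⟨N, hN⟩ := ih
    refine ⟨1 + 2 * N, fun M _ _ _ J a ha h => ?_⟩
    obtain ⟨G, hGkill, hzero, hsur, hregG⟩ := exists_torsionQuot (T := T) M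
    let S : ShortComplex (ModuleCat.{u} R) := ShortComplex.mk (ModuleCat.ofHom G.subtype) (ModuleCat.ofHom G.mkQ)
      (ModuleCat.hom_ext (LinearMap.exact_subtype_mkQ G).linearMap_comp_eq_zero)
    have hS : S.ShortExact :=
      { exact := (ShortComplex.ShortExact.moduleCat_exact_iff_function_exact _).2 (LinearMap.exact_subtype_mkQ G)
        mono_f := (ModuleCat.mono_iff_injective _).2 Subtype.val_injective
        epi_g := (ModuleCat.epi_iff_surjective _).2 G.mkQ_surjective }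
    have hG : ∀ b ∈ J, ∀ z : (localCohomology a (l + 1)).obj S.X₁, b • z = 0 := fun b hb z =>
      LC.smul_eq_zero_of_forall a (l + 1) b (M := S.X₁) (fun (m : G) => Subtype.ext (hGkill b (h 0 (Nat.zero_le _) b hb) m.1 m.2)) z
    have h' : ∀ j ≤ l + 1, ∀ b ∈ J, ∀ z : HTo T j (ModuleCat.of R (M ⧸ G)), b • z = 0 := by
      intro j hj b hb z
      rcases j with _ | j
      · exact hzero _
      · obtain ⟨w, rfl⟩ := hsur j z
        rw [← map_smul, h (j + 1) hj b hb w, map_zero]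
    obtain ⟨x, hx, hreg⟩ := hregG a ha
    -- the torsion free quotient
    have hQ : ∀ c ∈ J ^ (2 * N), ∀ y : (localCohomology a (l + 1)).obj S.X₃, c • y = 0 := by
      intro c hc y
      obtain ⟨k, hk⟩ := LC.isPowerTorsion_obj a (l + 1) S.X₃ y
      obtain ⟨δ, hδ, -⟩ := LC.exact_smul a (hreg.pow k) l
      obtain ⟨w, hw⟩ := (hδ y).1 (hk _ (Ideal.pow_mem_pow hx k))
      rw [pow_mul, pow_two] at hc
      have h1 := hN (QuotSMulTop (x ^ k) (M ⧸ G)) (J * J) a ha (fun j hj => mul_kill fun b hb d hd z =>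
        kill_seq j (S := (ModuleCat.of R (M ⧸ G)).smulShortComplex (x ^ k)) (hreg.pow k).smulShortComplex_shortExact
          (h' (j + 1) (by omega) d hd) (h' j (by omega) b hb) z) c hc w
      rw [← hw, ← map_smul, h1, map_zero]
    intro c hc
    rw [pow_add, pow_one] at hc
    refine mul_kill (fun b hb d hd z => ?_) c hc
    have h1 : ((localCohomology a (l + 1)).map S.g).hom (d • z) = 0 := by rw [map_smul]; exact hQ d hd _
    obtain ⟨w, hw⟩ := (LC.exact₂ a (l + 1) hS _).1 h1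
    rw [mul_smul, ← hw, ← map_smul, hG b hb w, map_zero]

/-- The necessity half: annihilation bounds depth plus codimension from below. -/
theorem lt_depth_add_height (T' : Set (PrimeSpectrum R)) (s : ℕ) (M : Type u) [AddCommGroup M]
    [Module R M] [Module.Finite R M] (hT : StableUnderSpecialization T)
    {J : Ideal R} (hJ : PrimeSpectrum.zeroLocus (J : Set R) ⊆ T')
    (hk : ∀ i ≤ s, ∀ a ∈ J, ∀ x : HTo T i (ModuleCat.of R M), a • x = 0) (p q : PrimeSpectrum R)
    (hp : p ∉ T') (hq : q ∈ T) :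
    (s : ℕ∞) < LocCoh.depth (Localization.AtPrime p.asIdeal) (LocalizedModule p.asIdeal.primeCompl M) +
      ((q.asIdeal ⊔ p.asIdeal).map (Ideal.Quotient.mk p.asIdeal)).height := by
  have hqT : PrimeSpectrum.zeroLocus (q.asIdeal : Set R) ⊆ T := fun x hx =>
    hT ((PrimeSpectrum.le_iff_specializes q x).1 hx) hq
  have hpJ : ¬ J ≤ p.asIdeal := fun h => hp (hJ h)
  have h1 : (s : ℕ∞) < LocCoh.finDimRel q.asIdeal J M := by
    rw [LocCoh.finDimRel, LC.lt_iInf_nat_iff]
    intro i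
    rw [LC.lt_iInf_nat_iff]
    intro hi
    by_contra hle
    rw [not_lt, Nat.cast_le] at hle
    apply hi
    obtain ⟨N, hN⟩ := exists_pow_kill_of_HT (T := T) i
    exact fun y hy => ⟨N, Module.mem_annihilator.2 fun z =>
      hN M J q.asIdeal hqT (fun j hj => hk j (hj.trans hle)) _ (Ideal.pow_mem_pow hy N) z⟩
  exact lt_of_lt_of_le h1 (LC.finDimRel_le_adjDepth q.asIdeal J M p hpJ)

end Groth.Agent.GrLib8.FaltingsDual
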