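import Groth.Agent.LC.Finiteness
import Groth.Agent.LC.HTensor
import Groth.Agent.LC.TopDim
import Mathlib.Algebra.Module.LocalizedModule.Exact

/-!
# Killing local cohomology from killing it at the points

If `s` kills `H^j` of `M_q` at the maximal ideal of `A_q` for all `q ⊇ J` and `j < c`, a power of `s`
depending only on the degree and the dimension of `A` kills `H^l_J(M)` for `l < c`.
-/

set_option autoImplicit false
set_option linter.style.haveILetI false

universe u

open CategoryTheory IsLocalRing
open scoped Pointwise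

namespace Groth.Agent.GrLib8.FaltingsDual

variable {A : Type u} [CommRing A]

/-- `s` kills the local cohomology at the points of `V(J)` below degree `c`. -/
def KillsAt (s : A) (M : Type u) [AddCommGroup M] [Module A M] (J : Ideal A) (c : ℕ) : Prop :=
  ∀ (q : Ideal A) [q.IsPrime], J ≤ q → ∀ j < c,
    ∀ z : LocCoh.H (maximalIdeal (Localization.AtPrime q)) j (LocalizedModule q.primeCompl M),
      algebraMap A (Localization.AtPrime q) s • z = 0

variable [IsNoetherianRing A]

theorem kills_third {B : Type u} [CommRing B] (I : Ideal B) {S : ShortComplex (ModuleCat.{u} B)}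
    (hS : S.ShortExact) (j : ℕ) (a b : B) (ha : ∀ z : (localCohomology I (j + 1)).obj S.X₁, a • z = 0)
    (hb : ∀ z : (localCohomology I j).obj S.X₂, b • z = 0) (z : (localCohomology I j).obj S.X₃) :
    (b * a) • z = 0 := by
  have h1 : LC.δH I j hS (j + 1) rfl (a • z) = 0 := by rw [map_smul, ha]
  obtain ⟨w, hw⟩ := (LC.exact₃ I j hS (j + 1) rfl _).1 h1
  rw [mul_smul, ← hw, ← map_smul, hb, map_zero]

omit [IsNoetherianRing A] in
/-- Localization of a short exact sequence, and the two killing hypotheses. -/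
theorem KillsAt.third {L M N : Type u} [AddCommGroup L] [Module A L] [AddCommGroup M] [Module A M]
    [AddCommGroup N] [Module A N] (f : L →ₗ[A] M) (g : M →ₗ[A] N) (hf : Function.Injective f)
    (hg : Function.Surjective g) (hfg : Function.Exact f g) (J : Ideal A) (a b : A) (c : ℕ)
    (ha : ∀ (q : Ideal A) [q.IsPrime], J ≤ q → ∀ j < c,
      ∀ z : LocCoh.H (maximalIdeal (Localization.AtPrime q)) (j + 1) (LocalizedModule q.primeCompl L),
        algebraMap A (Localization.AtPrime q) a • z = 0)
    (hb : KillsAt b M J c) : KillsAt (b * a) N J c := by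
  intro q _ hq j hj z
  let B := Localization.AtPrime q
  let f' := LocalizedModule.map q.primeCompl f
  let g' := LocalizedModule.map q.primeCompl g
  have hex : Function.Exact f' g' := LocalizedModule.map_exact q.primeCompl f g hfg
  let S : ShortComplex (ModuleCat.{u} B) := ShortComplex.mk (ModuleCat.ofHom f') (ModuleCat.ofHom g')
    (ModuleCat.hom_ext hex.linearMap_comp_eq_zero)
  have hS : S.ShortExact :=
    { exact := (ShortComplex.ShortExact.moduleCat_exact_iff_function_exact _).2 hex
      mono_f := (ModuleCat.mono_iff_injective _).2 (LocalizedModule.map_injective q.primeCompl f hf)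
      epi_g := (ModuleCat.epi_iff_surjective _).2 (LocalizedModule.map_surjective q.primeCompl g hg) }
  rw [map_mul]
  exact kills_third (maximalIdeal B) hS j _ _ (fun w => ha q hq j hj w) (fun w => hb q hq j hj w) z

theorem le_height_of_torsion {M : Type u} [AddCommGroup M] [Module A M] (s : A) (J : Ideal A)
    (h : KillsAt s M J 1) (z : M) (hz : z ∈ DRing.torsionSub J M) (k : ℕ) :
    ∀ (q : Ideal A), q.IsPrime → Ideal.torsionOf A M (s ^ k • z) ≤ q → (k : ℕ∞) ≤ q.height := by
  induction k with
  | zero => intro q _ _; simp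
  | succ k ih =>
    intro q hq hle
    let I := Ideal.torsionOf A M (s ^ k • z)
    have hI : I ≤ q := fun a ha => hle ((Ideal.mem_torsionOf_iff _ _).2 (by
      rw [pow_succ', mul_smul, smul_comm, (Ideal.mem_torsionOf_iff _ _).1 ha, smul_zero]))
    by_cases hmin : q ∈ I.minimalPrimes
    · exfalso
      have hJq : J ≤ q := by
        obtain ⟨n, hn⟩ := hz
        refine hq.le_of_pow_le (n := n) fun a ha => hI ((Ideal.mem_torsionOf_iff _ _).2 ?_)
        rw [smul_comm, hn a ha, smul_zero]
      let B := Localization.AtPrime q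
      haveI : IsNoetherianRing B := IsLocalization.isNoetherianRing q.primeCompl B inferInstance
      let w : LocalizedModule q.primeCompl M := LocalizedModule.mkLinearMap q.primeCompl M (s ^ k • z)
      have hrad : maximalIdeal B ≤ (Ideal.torsionOf B _ w).radical := by
        rw [Ideal.radical_eq_sInf]
        refine le_sInf fun P hP => ?_
        haveI := hP.2
        have h1 : P.comap (algebraMap A B) ≤ q :=
          (Ideal.comap_mono (le_maximalIdeal hP.2.ne_top)).trans_eq (IsLocalization.AtPrime.comap_maximalIdeal B q)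
        have h2 : I ≤ P.comap (algebraMap A B) := fun a ha => Ideal.mem_comap.2 (hP.1 ((Ideal.mem_torsionOf_iff _ _).2 (by
          rw [algebraMap_smul]
          show a • LocalizedModule.mkLinearMap q.primeCompl M (s ^ k • z) = 0
          rw [← map_smul, (Ideal.mem_torsionOf_iff _ _).1 ha, map_zero])))
        have h3 : q ≤ P.comap (algebraMap A B) := hmin.2 ⟨inferInstance, h2⟩ h1
        rw [← Localization.AtPrime.map_eq_maximalIdeal]
        exact (Ideal.map_mono h3).trans Ideal.map_comap_le
      obtain ⟨n, hn⟩ := Ideal.exists_pow_le_of_le_radical_of_fg hrad (IsNoetherian.noetherian _)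
      have hw : w ∈ DRing.torsionSub (maximalIdeal B) (LocalizedModule q.primeCompl M) :=
        ⟨n, fun a ha => (Ideal.mem_torsionOf_iff _ _).1 (hn ha)⟩
      let e := LC.H0Equiv (maximalIdeal B) (ModuleCat.of B (LocalizedModule q.primeCompl M))
      have h0 := congrArg e (h q hJq 0 one_pos (e.symm ⟨w, hw⟩))
      rw [map_smul, map_zero, LinearEquiv.apply_symm_apply] at h0
      have h1 : algebraMap A B s • w = 0 := congrArg Subtype.val h0
      have h2 : LocalizedModule.mkLinearMap q.primeCompl M (s ^ (k + 1) • z) = 0 := by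
        rw [pow_succ', mul_smul, map_smul]
        rw [algebraMap_smul] at h1
        exact h1
      obtain ⟨c, hc⟩ := (IsLocalizedModule.eq_zero_iff q.primeCompl
        (LocalizedModule.mkLinearMap q.primeCompl M)).1 h2
      exact c.2 (hle ((Ideal.mem_torsionOf_iff _ _).2 hc))
    · obtain ⟨q', hq', hle'⟩ := Ideal.exists_minimalPrimes_le hI
      haveI := hq'.1.1
      haveI := hq
      have hlt : q' < q := lt_of_le_of_ne hle' fun e => hmin (e ▸ hq')
      have h1 := Ideal.height_add_one_le_of_lt_of_isPrime hlt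
      refine le_trans ?_ h1
      rw [Nat.cast_add, Nat.cast_one]
      exact add_le_add (ih q' hq'.1.1 hq'.1.2) le_rfl

/-- Sections with supports. -/
theorem pow_smul_torsion {M : Type u} [AddCommGroup M] [Module A M] (s : A) (J : Ideal A) (D : ℕ)
    (hD : ringKrullDim A ≤ D) (h : KillsAt s M J 1) {z : M} (hz : z ∈ DRing.torsionSub J M) :
    s ^ (D + 1) • z = 0 := by
  by_contra hne
  have htop : Ideal.torsionOf A M (s ^ (D + 1) • z) ≠ ⊤ := fun e =>
    hne (by simpa using (Ideal.mem_torsionOf_iff _ _).1 (e ▸ Submodule.mem_top : (1 : A) ∈ Ideal.torsionOf A M _))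
  obtain ⟨q, hq, hle⟩ := Ideal.exists_le_maximal _ htop
  have h1 := le_height_of_torsion s J h z hz (D + 1) q hq.isPrime hle
  have h2 : (q.height : WithBot ℕ∞) ≤ (D : WithBot ℕ∞) :=
    (Ideal.height_le_ringKrullDim_of_ne_top hq.ne_top).trans hD
  have h3 : q.height ≤ (D : ℕ∞) := by exact_mod_cast h2
  have h4 : D + 1 ≤ D := by exact_mod_cast h1.trans h3
  omega

theorem KillsAt.mono {M : Type u} [AddCommGroup M] [Module A M] {s : A} {J : Ideal A} {c c' : ℕ}
    (h : KillsAt s M J c) (hc : c' ≤ c) : KillsAt s M J c' :=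
  fun q _ hq j hj => h q hq j (hj.trans_le hc)

theorem KillsAt.torsionQuot {M : Type u} [AddCommGroup M] [Module A M] (s : A) (J : Ideal A) (D : ℕ)
    (hD : ringKrullDim A ≤ D) (c : ℕ) (h : KillsAt s M J c) (hc : 1 ≤ c) :
    KillsAt (s * s ^ (D + 1)) (M ⧸ DRing.torsionSub J M) J c := by
  refine KillsAt.third (DRing.torsionSub J M).subtype (DRing.torsionSub J M).mkQ (Submodule.injective_subtype _)
    (Submodule.mkQ_surjective _) (LinearMap.exact_subtype_mkQ _) J (s ^ (D + 1)) s c ?_ h
  intro q _ _ j _ z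
  refine LC.smul_eq_zero_of_forall _ (j + 1)
    (M := ModuleCat.of (Localization.AtPrime q) (LocalizedModule q.primeCompl (DRing.torsionSub J M))) _
    (fun m => ?_) z
  obtain ⟨⟨m, t⟩, rfl⟩ := IsLocalizedModule.mk'_surjective q.primeCompl
    (LocalizedModule.mkLinearMap q.primeCompl (DRing.torsionSub J M)) m
  rw [algebraMap_smul]
  show s ^ (D + 1) • IsLocalizedModule.mk' _ m t = 0
  rw [← IsLocalizedModule.mk'_smul,
    show s ^ (D + 1) • m = 0 from Subtype.ext (pow_smul_torsion s J D hD (h.mono hc) m.2),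
    IsLocalizedModule.mk'_zero]

theorem KillsAt.quotSMulTop {M : Type u} [AddCommGroup M] [Module A M] (s : A) (J : Ideal A) (c : ℕ)
    (h : KillsAt s M J (c + 1)) {x : A} (hx : IsSMulRegular M x) :
    KillsAt (s * s) (QuotSMulTop x M) J c :=
  KillsAt.third (LinearMap.lsmul A M x) (x • (⊤ : Submodule A M)).mkQ hx (Submodule.mkQ_surjective _)
    (fun m => by
      rw [Submodule.mkQ_apply, Submodule.Quotient.mk_eq_zero, Submodule.mem_smul_pointwise_iff_exists]
      exact ⟨fun ⟨b, _, hb⟩ => ⟨b, hb⟩, fun ⟨b, hb⟩ => ⟨b, trivial, hb⟩⟩)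
    J s s c (fun q _ hq j hj z => h q hq (j + 1) (by omega) z) (h.mono (Nat.le_succ c))

/-- A uniform power kills local cohomology. -/
theorem exists_pow_kill (D : ℕ) (hD : ringKrullDim A ≤ D) (l : ℕ) :
    ∃ e : ℕ, ∀ (M : Type u) [AddCommGroup M] [Module A M] [Module.Finite A M] (s : A) (J : Ideal A) (c : ℕ),
      l < c → KillsAt s M J c → ∀ z : (localCohomology J l).obj (ModuleCat.of A M), s ^ e • z = 0 := by
  induction l with
  | zero =>
    refine ⟨D + 1, fun M _ _ _ s J c hc h z => (LC.H0Equiv J (ModuleCat.of A M)).injective ?_⟩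
    rw [map_smul, map_zero]
    exact Subtype.ext (pow_smul_torsion s J D hD (h.mono hc) ((LC.H0Equiv J (ModuleCat.of A M)) z).2)
  | succ l ih =>
    obtain ⟨e, he⟩ := ih
    refine ⟨2 * (D + 2) * e, fun M _ _ _ s J c hc h z => ?_⟩
    obtain ⟨c, rfl⟩ : ∃ c', c = c' + 1 := ⟨c - 1, by omega⟩
    let M' := M ⧸ DRing.torsionSub J M
    have h' := KillsAt.torsionQuot s J D hD (c + 1) h (by omega)
    obtain ⟨x, hx, hreg⟩ := LC.exists_regular_of_torsionFree J M' (LC.torsionSub_quot_eq_bot J M)
    refine (LC.map_mkQ_bijective J M l).injective ?_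
    rw [map_smul, map_zero]
    set y := ((localCohomology J (l + 1)).map (ModuleCat.ofHom (DRing.torsionSub J M).mkQ)).hom z
    obtain ⟨k, hk⟩ := LC.isPowerTorsion_obj J (l + 1) (ModuleCat.of A M') y
    obtain ⟨δ, hδ, -⟩ := LC.exact_smul J (hreg.pow k) l
    obtain ⟨w, hw⟩ := (hδ y).1 (hk _ (Ideal.pow_mem_pow hx k))
    have h1 := he (QuotSMulTop (x ^ k) M') _ J c (by omega) (KillsAt.quotSMulTop _ J c h' (hreg.pow k)) w
    rw [show s ^ (2 * (D + 2) * e) = (s * s ^ (D + 1) * (s * s ^ (D + 1))) ^ e by
      rw [pow_mul]; congr 1; rw [← pow_succ', ← pow_add]; congr 1; omega, ← hw, ← map_smul, h1, map_zero]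

end Groth.Agent.GrLib8.FaltingsDual
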