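import Groth.Agent.KFlatLib.Ring.DualizingRange
import Groth.Agent.KFlatLib.Ring.InvertibleTwist
import Groth.Agent.S1713
import Groth.Agent.GrLib8.FaltingsDual.Uniform

/-!
# Killing local cohomology at the points from a dualizing complex
-/

set_option autoImplicit false
set_option linter.style.haveILetI false
set_option backward.isDefEq.respectTransparency false

universe u

open CategoryTheory IsLocalRing
open scoped TensorProduct

attribute [local instance] HasDerivedCategory.standard

namespace Groth.Agent.GrLib8.FaltingsDual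

open KFlatLib

variable {A : Type u} [CommRing A] [IsNoetherianRing A] {ω : Dual.D A} {n : PrimeSpectrum A → ℤ}

/-- An element killing an Ext into the dualizing complex kills the dual local cohomology at a prime. -/
theorem kill_H_of_kill_ext (hω : Dual.IsDualizing A ω) (hn : IsExtDegree ω n) (q : PrimeSpectrum A)
    (M : Type u) [AddCommGroup M] [Module A M] [Module.Finite A M] (j : ℕ) (x : A)
    (hx : ∀ φ : Dual.inD A M ⟶ ω⟦n q - j⟧, x • φ = 0)
    (z : LocCoh.H (maximalIdeal (Localization.AtPrime q.asIdeal)) j (LocalizedModule q.asIdeal.primeCompl M)) :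
    algebraMap A (Localization.AtPrime q.asIdeal) x • z = 0 := by
  let B := Localization.AtPrime q.asIdeal
  haveI := hasLBase (algebraMap A B)
  haveI : Module.Flat A B := IsLocalization.flat _ q.asIdeal.primeCompl
  haveI : IsNoetherianRing B := IsLocalization.isNoetherianRing q.asIdeal.primeCompl _ inferInstance
  haveI : Module.Finite B (LocalizedModule q.asIdeal.primeCompl M) :=
    Module.Finite.of_isLocalizedModule q.asIdeal.primeCompl (LocalizedModule.mkLinearMap _ _)
  obtain ⟨a, b, -, _, _⟩ := exists_bounds_of_isDualizing hω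
  let W := (DTen.LBase (algebraMap A B)).obj ω
  have hB : Dual.IsDualizing B W :=
    isDualizing_LBase hω fun m _ => ⟨m.comap (algebraMap A B), IsLocalization.map_comap q.asIdeal.primeCompl _ m⟩
  let W' := W⟦n q⟧
  have hB' : Dual.IsDualizing B W' := isDualizing_shift hB (n q)
  have hN : Dual.IsNormalized B W' := by
    intro i hi
    obtain ⟨e⟩ := exists_localExtLEquiv (ω := ω) a q.asIdeal q.asIdeal (n q + i)
    haveI : Subsingleton (LocalizedModule q.asIdeal.primeCompl
        (Dual.inD A (A ⧸ q.asIdeal) ⟶ ω⟦n q + i⟧)) := by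
      by_contra hcon
      rw [not_subsingleton_iff_nontrivial] at hcon
      exact hi (by have := (hn q _).1 hcon; omega)
    haveI := e.subsingleton
    let σ : Dual.inD B (ResidueField B) ≅ Dual.inD B (B ⧸ q.asIdeal.map (algebraMap A B)) :=
      (DerivedCategory.singleFunctor (ModuleCat.{u} B) 0).mapIso
        (Submodule.quotEquivOfEq (maximalIdeal B) _ Localization.AtPrime.map_eq_maximalIdeal.symm).toModuleIso
    exact (Iso.homCongr σ ((shiftFunctorAdd' (Dual.D B) (n q) i (n q + i) rfl).app W).symm).subsingleton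
  obtain ⟨eI⟩ := nonempty_LBase_inD_localized q.asIdeal M
  obtain ⟨e⟩ := exists_homBaseChangeLEquiv (B := B) (X := Dual.inD A M) (Y := ω)
    ((Groth.Agent.S6942.result A 0 ω M).2.2 inferInstance) a (n q - j)
  let τ : W⟦n q - (j : ℤ)⟧ ≅ W'⟦-(j : ℤ)⟧ :=
    (shiftFunctorAdd' (Dual.D B) (n q) (-(j : ℤ)) (n q - j) (by omega)).app W
  have hkill : algebraMap A B x ∈
      Module.annihilator B (Dual.inD B (LocalizedModule q.asIdeal.primeCompl M) ⟶ W'⟦-(j : ℤ)⟧) := by
    rw [Module.mem_annihilator]
    intro φ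
    have h1 : ∀ t : B ⊗[A] (Dual.inD A M ⟶ ω⟦n q - (j : ℤ)⟧), algebraMap A B x • t = 0 := by
      intro t
      rw [algebraMap_smul]
      induction t using TensorProduct.induction_on with
      | zero => rw [smul_zero]
      | tmul c ψ => rw [← TensorProduct.tmul_smul, hx, TensorProduct.tmul_zero]
      | add u v hu hv => rw [smul_add, hu, hv, add_zero]
    have h2 : algebraMap A B x • (eI.hom ≫ φ ≫ τ.inv) = 0 := e.injective (by rw [map_smul, h1, map_zero])
    rw [← Linear.comp_smul, ← Linear.smul_comp] at h2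
    have h3 := congrArg (fun f => eI.inv ≫ f ≫ τ.hom) h2
    simpa using h3
  rw [Groth.Agent.S1713.result B W' hB' hN (LocalizedModule q.asIdeal.primeCompl M) j] at hkill
  exact Module.mem_annihilator.1 hkill z

/-- At a prime outside the support everything is killed. -/
theorem exists_annihilator_notMem (hω : Dual.IsDualizing A ω) (M : Type u) [AddCommGroup M] [Module A M]
    [Module.Finite A M] (p : PrimeSpectrum A) (i : ℤ)
    (h : p ∉ Module.support A (Dual.inD A M ⟶ ω⟦i⟧)) :
    ∃ x ∉ p.asIdeal, ∀ φ : Dual.inD A M ⟶ ω⟦i⟧, x • φ = 0 := by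
  obtain ⟨a, b, -, _, -⟩ := exists_bounds_of_isDualizing hω
  haveI := finite_hom_module ω a hω.finite_cohomology M i
  rw [Module.support_eq_zeroLocus] at h
  obtain ⟨x, hx, hxp⟩ := Set.not_subset.1 h
  exact ⟨x, hxp, Module.mem_annihilator.1 hx⟩

/-- One element outside a prime kills all the high Ext modules. -/
theorem exists_kill_high_ext (hω : Dual.IsDualizing A ω) (hn : IsExtDegree ω n) (M : Type u)
    [AddCommGroup M] [Module A M] [Module.Finite A M] (p : PrimeSpectrum A) :
    ∃ x ∉ p.asIdeal, ∀ i : ℤ,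
      (p ∈ Module.support A M → ∀ δ : ℕ,
        LocCoh.depth (Localization.AtPrime p.asIdeal) (LocalizedModule p.asIdeal.primeCompl M) = δ → n p - δ < i) →
      ∀ φ : Dual.inD A M ⟶ ω⟦i⟧, x • φ = 0 := by
  classical
  obtain ⟨a, b, hab⟩ := hω.finite_injective_dimension
  have hloc : ∀ i : ℤ, ∃ x ∉ p.asIdeal,
      (p ∈ Module.support A M → ∀ δ : ℕ,
        LocCoh.depth (Localization.AtPrime p.asIdeal) (LocalizedModule p.asIdeal.primeCompl M) = δ → n p - δ < i) →
      ∀ φ : Dual.inD A M ⟶ ω⟦i⟧, x • φ = 0 := by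
    intro i
    by_cases hs : p ∈ Module.support A (Dual.inD A M ⟶ ω⟦i⟧)
    · refine ⟨1, fun h1 => p.isPrime.ne_top ((Ideal.eq_top_iff_one _).2 h1), fun h => absurd ?_ (lt_irrefl (0 : ℤ))⟩
      have hsM : p ∈ Module.support A M := support_hom_subset M _ hs
      obtain ⟨δ, d, hδ, hd⟩ := exists_depth_dim p M hsM
      have h1 := ((localized_ext_range hω hn p M δ d hδ hd).1 i hs).2
      have h2 := h hsM δ hδ
      omega
    · obtain ⟨x, hx, hk⟩ := exists_annihilator_notMem hω M p i hs
      exact ⟨x, hx, fun _ => hk⟩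
  choose x hx hk using hloc
  refine ⟨∏ i ∈ Finset.Icc a b, x i, Submonoid.prod_mem p.asIdeal.primeCompl fun i _ => hx i, fun i hi φ => ?_⟩
  by_cases hab' : i ∈ Finset.Icc a b
  · rw [← Finset.prod_erase_mul _ _ hab', mul_smul, hk i hi, smul_zero]
  · haveI := hab M i (by rw [Finset.mem_Icc] at hab'; omega)
    exact Subsingleton.elim _ _

/-- The killing element of a prime. -/
theorem exists_killsAt (hω : Dual.IsDualizing A ω) (hn : IsExtDegree ω n) (M : Type u)
    [AddCommGroup M] [Module A M] [Module.Finite A M] (p : PrimeSpectrum A) :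
    ∃ x ∉ p.asIdeal, ∀ (J : Ideal A) (c : ℕ),
      (p ∈ Module.support A M → ∀ q : PrimeSpectrum A, J ≤ q.asIdeal → ∀ δ : ℕ,
        LocCoh.depth (Localization.AtPrime p.asIdeal) (LocalizedModule p.asIdeal.primeCompl M) = δ →
          n p + c ≤ n q + δ) →
      KillsAt x M J c := by
  obtain ⟨x, hx, hk⟩ := exists_kill_high_ext hω hn M p
  refine ⟨x, hx, fun J c hc q hq hJq j hj z => ?_⟩
  refine kill_H_of_kill_ext hω hn ⟨q, hq⟩ M j x (hk _ fun hs δ hδ => ?_) z
  have := hc hs ⟨q, hq⟩ hJq δ hδ
  omega

end Groth.Agent.GrLib8.FaltingsDual
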