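import Groth.Agent.GrLib8.FaltingsDual.Local
import Groth.Agent.GrLib8.FaltingsDual.HTKill

/-!
# Faltings' annihilator theorem over a ring with a dualizing complex
-/

set_option autoImplicit false
set_option linter.style.haveILetI false

universe u

open CategoryTheory IsLocalRing

attribute [local instance] HasDerivedCategory.standard

namespace Groth.Agent.GrLib8.FaltingsDual

open KFlatLib HTLib

variable {A : Type u} [CommRing A]

/-- The dimension of an interval is the height in the half line. -/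
theorem krullDim_Icc_eq (p q : PrimeSpectrum A) (h : p ≤ q) :
    Order.krullDim (Set.Icc p q) = ((Order.height (⟨q, h⟩ : Set.Ici p) : ℕ∞) : WithBot ℕ∞) := by
  rw [Order.height_eq_krullDim_Iic]
  exact Order.krullDim_eq_of_orderIso
    { toFun := fun x => ⟨⟨x.1, x.2.1⟩, x.2.2⟩
      invFun := fun x => ⟨x.1.1, x.1.2, x.2⟩
      left_inv := fun _ => rfl
      right_inv := fun _ => rfl
      map_rel_iff' := Iff.rfl }

theorem height_le_of_strictMono {n : PrimeSpectrum A → ℤ} (hmono : StrictMono n) (p q : PrimeSpectrum A)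
    (h : p ≤ q) : Order.height (⟨q, h⟩ : Set.Ici p) ≤ ((n q - n p).toNat : ℕ∞) := by
  refine Order.height_le fun l hl => ?_
  have h1 : ∀ k : ℕ, ∀ hk : k < l.length + 1, n l.head.1 + k ≤ n (l ⟨k, hk⟩).1 := by
    intro k
    induction k with
    | zero => intro hk; simp [RelSeries.head]
    | succ k ih =>
      intro hk
      have h2 := ih (by omega)
      have h3 := hmono (Subtype.coe_lt_coe.2 (l.step ⟨k, by omega⟩))
      simp only [Fin.castSucc_mk, Fin.succ_mk] at h3
      push_cast
      omega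
  have h2 := h1 l.length (by omega)
  have h3 : n p ≤ n l.head.1 := hmono.monotone l.head.2
  rw [show (l ⟨l.length, by omega⟩).1 = q from congrArg Subtype.val hl] at h2
  exact_mod_cast (show l.length ≤ (n q - n p).toNat by omega)

variable [IsNoetherianRing A]

/-- The depth-plus-dimension condition at a prime. -/
def Cond (T : Set (PrimeSpectrum A)) (s : ℕ) (M : Type u) [AddCommGroup M] [Module A M] (p : PrimeSpectrum A) :
    Prop :=
  ∀ q : PrimeSpectrum A, q ∈ T → p ≤ q → (s : WithBot ℕ∞) <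
    ((LocCoh.depth (Localization.AtPrime p.asIdeal) (LocalizedModule p.asIdeal.primeCompl M) : ℕ∞) : WithBot ℕ∞) +
      Order.krullDim (Set.Icc p q)

/-- Sufficiency, uniformly in the ideals. -/
theorem exists_kill_of_cond (hA : ∃ ω : Dual.D A, Dual.IsDualizing A ω) (T T' : Set (PrimeSpectrum A))
    (hT' : StableUnderSpecialization T') (s : ℕ) (M : Type u) [AddCommGroup M] [Module A M] [Module.Finite A M]
    (h : ∀ p : PrimeSpectrum A, p ∉ T' → Cond T s M p) :
    ∃ J : Ideal A, PrimeSpectrum.zeroLocus (J : Set A) ⊆ T' ∧ ∀ a : Ideal A,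
      PrimeSpectrum.zeroLocus (a : Set A) ⊆ T → ∀ l ≤ s, ∀ x ∈ J,
        ∀ z : (localCohomology a l).obj (ModuleCat.of A M), x • z = 0 := by
  obtain ⟨ω, hω⟩ := hA
  obtain ⟨n, hn, -, hmono, -⟩ := exists_extDegree hω
  obtain ⟨D, hD⟩ : ∃ D : ℕ, ringKrullDim A ≤ D := by
    have hlt := ringKrullDim_lt_top_of_isDualizing hω
    generalize ringKrullDim A = d at hlt
    rcases d with _ | d
    · exact ⟨0, bot_le⟩
    · rcases d with _ | d
      · exact absurd hlt (lt_irrefl _)
      · exact ⟨d, le_rfl⟩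
  refine exists_kill_ideal T T' hT' s (ModuleCat.of A M) fun p hp => ?_
  obtain ⟨x, hx, hk⟩ := exists_killsAt hω hn M p
  choose e he using fun l : ℕ => exists_pow_kill D hD l
  refine ⟨x ^ (∑ l ∈ Finset.range (s + 1), e l), fun h => hx (p.isPrime.mem_of_pow_mem _ h),
    fun a ha hpa l hl z => ?_⟩
  have hka : KillsAt x M a (s + 1) := hk a (s + 1) fun _ q hq δ hδ => by
    have hpq : p ≤ q := hpa.trans hq
    have h1 := h p hp q (ha hq) hpq
    rw [hδ, krullDim_Icc_eq p q hpq] at h1
    have h2 := height_le_of_strictMono hmono p q hpq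
    have h3 : (s : ℕ∞) < (δ : ℕ∞) + Order.height (⟨q, hpq⟩ : Set.Ici p) := by exact_mod_cast h1
    have h4 : (s : ℕ∞) < ((δ + (n q - n p).toNat : ℕ) : ℕ∞) := by
      rw [Nat.cast_add]
      exact lt_of_lt_of_le h3 (add_le_add le_rfl h2)
    have h5 : s < δ + (n q - n p).toNat := by exact_mod_cast h4
    have h6 : n p ≤ n q := hmono.monotone hpq
    omega
  rw [← Finset.sum_erase_add _ _ (Finset.mem_range.2 (Nat.lt_succ_of_le hl)), pow_add, mul_smul,
    he l M x a (s + 1) (by omega) hka z, smul_zero]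

/-- Necessity. -/
theorem cond_of_kill (T T' : Set (PrimeSpectrum A)) (hT : StableUnderSpecialization T) (s : ℕ) (M : Type u)
    [AddCommGroup M] [Module A M] [Module.Finite A M] {J : Ideal A}
    (hJ : PrimeSpectrum.zeroLocus (J : Set A) ⊆ T')
    (hk : ∀ i ≤ s, ∀ a ∈ J, ∀ x : HTo T i (ModuleCat.of A M), a • x = 0) (p : PrimeSpectrum A) (hp : p ∉ T') :
    Cond T s M p := by
  intro q hq hpq
  have h1 := lt_depth_add_height T' s M hT hJ hk p q hp hq
  rw [sup_eq_left.2 (show p.asIdeal ≤ q.asIdeal from hpq), ← LC.height_Ici_eq p q hpq] at h1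
  rw [krullDim_Icc_eq p q hpq, ← WithBot.coe_add]
  exact WithBot.coe_lt_coe.2 h1

/-- The annihilator theorem. -/
theorem annihilator_iff (hA : ∃ ω : Dual.D A, Dual.IsDualizing A ω) (T T' : Set (PrimeSpectrum A))
    (hT : StableUnderSpecialization T) (hT' : StableUnderSpecialization T') (s : ℕ) (M : Type u)
    [AddCommGroup M] [Module A M] [Module.Finite A M] :
    (∃ J : Ideal A, PrimeSpectrum.zeroLocus (J : Set A) ⊆ T' ∧ ∀ i : ℕ, i ≤ s → ∀ a ∈ J,
        ∀ x : HTo T i (ModuleCat.of A M), a • x = 0) ↔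
      ∀ p : PrimeSpectrum A, p ∉ T' → Cond T s M p := by
  refine ⟨fun ⟨J, hJ, hk⟩ p hp => cond_of_kill T T' hT s M hJ hk p hp, fun h => ?_⟩
  obtain ⟨J, hJ, hk⟩ := exists_kill_of_cond hA T T' hT' s M h
  exact ⟨J, hJ, fun i hi a ha x => HT_kill_of_forall i (ModuleCat.of A M) a (fun b hb z => hk b hb i hi a ha z) x⟩

/-- The finiteness theorem. -/
theorem finite_iff (hA : ∃ ω : Dual.D A, Dual.IsDualizing A ω) (T : Set (PrimeSpectrum A))
    (hT : StableUnderSpecialization T) (s : ℕ) (M : Type u) [AddCommGroup M] [Module A M] [Module.Finite A M] :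
    (∀ i : ℕ, i ≤ s → Module.Finite A (HTo T i (ModuleCat.of A M))) ↔
      ∀ p : PrimeSpectrum A, p ∉ T → Cond T s M p := by
  classical
  rw [← annihilator_iff hA T T hT hT s M]
  constructor
  · intro h
    choose! J hJ hk using fun (i : ℕ) (hi : i ≤ s) =>
      haveI := h i hi
      exists_kill_of_finite (T := T) (H := HTo T i (ModuleCat.of A M)) (isKilled i (ModuleCat.of A M))
    refine ⟨∏ i ∈ Finset.range (s + 1), J i, Finset.prod_induction _
      (fun J : Ideal A => PrimeSpectrum.zeroLocus (J : Set A) ⊆ T) (fun _ _ => zeroLocus_mul_subset) (by simp)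
      fun i hi => hJ i (Nat.le_of_lt_succ (Finset.mem_range.1 hi)), fun i hi a ha x =>
        hk i hi a (Ideal.le_of_dvd (Finset.dvd_prod_of_mem J (Finset.mem_range.2 (Nat.lt_succ_of_le hi))) ha) x⟩
  · rintro ⟨J, hJ, hk⟩ i hi
    exact finite_of_kill s M J hJ (fun l hl a ha z => hk l hl a ha z) i hi

end Groth.Agent.GrLib8.FaltingsDual
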