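import Groth.Agent.GrLib8.FaltingsDual.Rows

/-!
# Improving the depth to two along a closed family
-/

set_option autoImplicit false
set_option linter.style.haveILetI false

universe u

open CategoryTheory IsLocalRing
open scoped Pointwise

attribute [local instance] HasDerivedCategory.standard

namespace Groth.Agent.GrLib8.FaltingsDual

open HTLib

variable {A : Type u} [CommRing A] [IsNoetherianRing A] {T : Set (PrimeSpectrum A)}

/-- An element killing `H¹_T` of a torsion free module moves saturations into the submodule `yM`. -/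
theorem smul_mem_of_kill (M : Type u) [AddCommGroup M] [Module A M]
    (h0 : ∀ z : HTo T 0 (ModuleCat.of A M), z = 0) (x : A)
    (h1 : ∀ z : HTo T 1 (ModuleCat.of A M), x • z = 0) {y : A} (hy : IsSMulRegular M y) (m : M) (K : Ideal A)
    (hK : PrimeSpectrum.zeroLocus (K : Set A) ⊆ T) (hm : ∀ a ∈ K, a • m ∈ y • (⊤ : Submodule A M)) :
    x • m ∈ y • (⊤ : Submodule A M) := by
  have hq : ∀ z : HTo T 0 (ModuleCat.of A (QuotSMulTop y M)), x • z = 0 := fun z => by
    have h := kill_seq 0 (S := (ModuleCat.of A M).smulShortComplex y) hy.smulShortComplex_shortExact (a := x) (b := 1)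
      h1 (fun w => by rw [one_smul]; exact h0 w) z
    rwa [one_mul] at h
  have h2 := smul_torsion_eq_zero (ModuleCat.of A (QuotSMulTop y M)) x hq (Submodule.Quotient.mk m) K hK
    (fun a ha => by
      change a • (Submodule.Quotient.mk m : QuotSMulTop y M) = 0
      rw [← Submodule.Quotient.mk_smul, Submodule.Quotient.mk_eq_zero]
      exact hm a ha)
  change x • (Submodule.Quotient.mk m : QuotSMulTop y M) = 0 at h2
  rwa [← Submodule.Quotient.mk_smul, Submodule.Quotient.mk_eq_zero] at h2

/-- The improvement. -/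
theorem exists_depth_two (hA : ∃ ω : Dual.D A, Dual.IsDualizing A ω) (T : Set (PrimeSpectrum A))
    (hT : StableUnderSpecialization T) (M : Type u) [AddCommGroup M] [Module A M] [Module.Finite A M]
    (hM : ∀ p q : PrimeSpectrum A, p ⋖ q → q ∈ T → p ∉ T →
      1 ≤ LocCoh.depth (Localization.AtPrime p.asIdeal) (LocalizedModule p.asIdeal.primeCompl M)) :
    ∃ (M'' : Type u) (_ : AddCommGroup M'') (_ : Module A M'') (_ : Module.Finite A M'') (f : M →ₗ[A] M''),
      (∀ p : PrimeSpectrum A, p ∉ T → Function.Bijective (LocalizedModule.map p.asIdeal.primeCompl f)) ∧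
      ∀ p : PrimeSpectrum A, p ∈ T →
        2 ≤ LocCoh.depth (Localization.AtPrime p.asIdeal) (LocalizedModule p.asIdeal.primeCompl M'') := by
  classical
  have hcond : ∀ p : PrimeSpectrum A, p ∉ T → Cond T 1 M p := by
    intro p hp q hq hpq
    rw [krullDim_Icc_eq p q hpq, ← WithBot.coe_add]
    refine WithBot.coe_lt_coe.2 ?_
    have hlt : p < q := lt_of_le_of_ne hpq fun e => hp (e ▸ hq)
    have h1 : (1 : ℕ∞) ≤ Order.height (⟨q, hpq⟩ : Set.Ici p) := by
      refine le_trans ?_ (Order.height_add_one_le (show (⟨p, Set.self_mem_Ici⟩ : Set.Ici p) < ⟨q, hpq⟩ from hlt))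
      exact le_add_self
    by_cases hc : p ⋖ q
    · exact lt_of_lt_of_le (by decide) (add_le_add (hM p q hc hq hp) h1)
    · obtain ⟨r, hpr, hrq⟩ := exists_lt_lt_of_not_covBy hlt hc
      have h2 : (2 : ℕ∞) ≤ Order.height (⟨q, hpq⟩ : Set.Ici p) := by
        refine le_trans ?_ (Order.height_add_one_le (show (⟨r, hpr.le⟩ : Set.Ici p) < ⟨q, hpq⟩ from hrq))
        refine le_trans ?_ (add_le_add (Order.height_add_one_le
          (show (⟨p, Set.self_mem_Ici⟩ : Set.Ici p) < ⟨r, hpr.le⟩ from hpr)) le_rfl)
        exact (le_of_eq (by norm_num)).trans (add_le_add le_add_self le_rfl)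
      exact lt_of_lt_of_le (by decide) (h2.trans le_add_self)
  obtain ⟨J, hJ, hk⟩ := (annihilator_iff hA T T hT hT 1 M).2 hcond
  obtain ⟨G, hGkill, hzero, hsur, hregG⟩ := exists_torsionQuot (T := T) M
  let M' := M ⧸ G
  obtain ⟨x, hxJ, hx⟩ := hregG J hJ
  have hx1 : ∀ z : HTo T 1 (ModuleCat.of A M'), x • z = 0 := fun z => by
    obtain ⟨w, rfl⟩ := hsur 0 z
    rw [← map_smul, hk 1 le_rfl x hxJ w, map_zero]
  -- the saturation of `x M'`
  let N : Submodule A M' :=
    { carrier := {m | ∃ K : Ideal A, PrimeSpectrum.zeroLocus (K : Set A) ⊆ T ∧ ∀ a ∈ K, a • m ∈ x • (⊤ : Submodule A M')}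
      zero_mem' := ⟨⊤, by simp, fun a _ => by rw [smul_zero]; exact zero_mem _⟩
      add_mem' := fun ⟨K, hK, h⟩ ⟨K', hK', h'⟩ => ⟨K * K', zeroLocus_mul_subset hK hK', fun a ha => by
        rw [smul_add]; exact add_mem (h a (Ideal.mul_le_left ha)) (h' a (Ideal.mul_le_right ha))⟩
      smul_mem' := fun c _ ⟨K, hK, h⟩ => ⟨K, hK, fun a ha => by
        rw [smul_comm]; exact Submodule.smul_mem _ c (h a ha)⟩ }
  haveI : Module.Finite A N := Module.Finite.iff_fg.2 (IsNoetherian.noetherian N)
  have hxN : ∀ m : M', x • m ∈ N := fun m => ⟨⊤, by simp, fun a _ =>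
    Submodule.smul_mem _ a (Submodule.smul_mem_pointwise_smul m x _ trivial)⟩
  let f : M →ₗ[A] N := LinearMap.codRestrict N ((LinearMap.lsmul A M' x).comp G.mkQ) fun m => hxN (G.mkQ m)
  refine ⟨N, inferInstance, inferInstance, inferInstance, f, fun p hp => ?_, fun q hq => ?_⟩
  · -- away from the family
    obtain ⟨b, hbJ, hbp⟩ := SetLike.not_le_iff_exists.1 (fun (hle : J ≤ p.asIdeal) =>
      hp (hJ ((PrimeSpectrum.mem_zeroLocus p (J : Set A)).2 hle)))
    refine ⟨(injective_iff_map_eq_zero _).2 fun z hz => ?_, fun z => ?_⟩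
    · induction z using LocalizedModule.induction_on with
      | h m t =>
        rw [LocalizedModule.map_mk, ← LocalizedModule.zero_mk t, LocalizedModule.mk_eq] at hz
        obtain ⟨c, hc⟩ := hz
        have hct : ((c : A) * (t : A)) • f m = 0 := by
          rw [mul_smul]
          exact hc.trans (by simp)
        have h2 : G.mkQ (((c : A) * (t : A)) • m) = 0 := hx (show x • G.mkQ (((c : A) * (t : A)) • m) = x • (0 : M') by
          rw [smul_zero, map_smul, smul_comm]
          exact congrArg Subtype.val hct)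
        rw [Submodule.mkQ_apply, Submodule.Quotient.mk_eq_zero] at h2
        rw [← LocalizedModule.zero_mk t, LocalizedModule.mk_eq]
        refine ⟨⟨b * c, p.asIdeal.primeCompl.mul_mem hbp c.2⟩, ?_⟩
        show (b * (c : A)) • (t : A) • m = (b * (c : A)) • (t : A) • (0 : M)
        rw [smul_zero, smul_zero, ← mul_smul, mul_assoc, mul_smul]
        exact hGkill b (fun w => hk 0 (Nat.zero_le _) b hbJ w) _ h2
    · induction z using LocalizedModule.induction_on with
      | h n t =>
        obtain ⟨K, hK, hKn⟩ := n.2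
        obtain ⟨a, haK, hap⟩ := SetLike.not_le_iff_exists.1 (fun (hle : K ≤ p.asIdeal) =>
          hp (hK ((PrimeSpectrum.mem_zeroLocus p (K : Set A)).2 hle)))
        obtain ⟨m', -, hm'⟩ := (Submodule.mem_smul_pointwise_iff_exists _ _ _).1 (hKn a haK)
        obtain ⟨m, rfl⟩ := G.mkQ_surjective m'
        refine ⟨LocalizedModule.mk m ⟨a * t, p.asIdeal.primeCompl.mul_mem hap t.2⟩, ?_⟩
        rw [LocalizedModule.map_mk, LocalizedModule.mk_eq]
        refine ⟨1, Subtype.ext ?_⟩
        show (1 : A) • (t : A) • (x • G.mkQ m) = (1 : A) • (a * (t : A)) • (n : M')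
        rw [hm', mul_comm, mul_smul]
  · -- on the family
    have hqT : PrimeSpectrum.zeroLocus (q.asIdeal : Set A) ⊆ T := fun r hr =>
      hT ((PrimeSpectrum.le_iff_specializes q r).1 hr) hq
    obtain ⟨y, hyq, hy⟩ := hregG q.asIdeal hqT
    refine (Groth.Agent.Alg6.two_le_depth_atPrime_iff (M := N) q.asIdeal hyq
      (fun u v huv => Subtype.ext (hy (congrArg Subtype.val huv)))).2 fun hass => ?_
    obtain ⟨-, z, hz⟩ := Groth.Agent.Alg6.mem_ass_iff.1 hass
    obtain ⟨z, rfl⟩ := Submodule.Quotient.mk_surjective _ z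
    suffices hzy : z ∈ y • (⊤ : Submodule A N) from
      q.isPrime.ne_top ((Ideal.eq_top_iff_one _).2 ((hz 1).2 (by
        rw [one_smul, Submodule.Quotient.mk_eq_zero]; exact hzy)))
    have hqz : ∀ a ∈ q.asIdeal, ∃ n : N, y • n = a • z := fun a ha => by
      have h := (hz a).1 ha
      rw [← Submodule.Quotient.mk_smul, Submodule.Quotient.mk_eq_zero,
        Submodule.mem_smul_pointwise_iff_exists] at h
      obtain ⟨n, -, hn⟩ := h
      exact ⟨n, hn⟩
    obtain ⟨w, -, hw⟩ := (Submodule.mem_smul_pointwise_iff_exists _ _ _).1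
      (smul_mem_of_kill M' hzero x hx1 hy (z : M') q.asIdeal hqT fun a ha => by
        obtain ⟨n, hn⟩ := hqz a ha
        rw [show a • (z : M') = y • (n : M') from (congrArg Subtype.val hn).symm]
        exact Submodule.smul_mem_pointwise_smul _ y _ trivial)
    -- `a • w = x • n_a`
    obtain ⟨k, g, hg⟩ := Submodule.fg_iff_exists_fin_generating_family.1 (IsNoetherian.noetherian q.asIdeal)
    choose nj hnj using fun j => hqz (g j) (hg ▸ Submodule.subset_span ⟨j, rfl⟩)
    choose Kj hKj hKn using fun j => (nj j).2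
    let K : Ideal A := q.asIdeal * ∏ j, Kj j
    have hK : PrimeSpectrum.zeroLocus (K : Set A) ⊆ T := zeroLocus_mul_subset hqT
      (Finset.prod_induction _ (fun J : Ideal A => PrimeSpectrum.zeroLocus (J : Set A) ⊆ T)
        (fun _ _ => zeroLocus_mul_subset) (by simp) fun j _ => hKj j)
    have hw2 : ∀ a ∈ K, a • w ∈ (x * x) • (⊤ : Submodule A M') := by
      intro a ha
      refine Submodule.mul_induction_on ha (fun b hb c hc => ?_) fun u v hu hv => by
        rw [add_smul]; exact add_mem hu hv
      rw [← hg] at hb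
      induction hb using Submodule.span_induction with
      | mem b hb =>
        obtain ⟨j, rfl⟩ := hb
        obtain ⟨v, -, hv⟩ := (Submodule.mem_smul_pointwise_iff_exists _ _ _).1
          (hKn j c (Ideal.le_of_dvd (Finset.dvd_prod_of_mem Kj (Finset.mem_univ j)) hc))
        have h3 : g j • w = x • (nj j : M') := hy (by
          show y • g j • w = y • x • (nj j : M')
          rw [smul_comm, hw, smul_comm, smul_comm y x, show y • (nj j : M') = g j • (z : M') from
            congrArg Subtype.val (hnj j)])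
        rw [mul_comm (g j) c, mul_smul c (g j) w, h3, smul_comm, ← hv, ← mul_smul x x v]
        exact Submodule.smul_mem_pointwise_smul _ _ _ trivial
      | zero => rw [zero_mul, zero_smul]; exact zero_mem _
      | add u v _ _ hu hv => rw [add_mul, add_smul]; exact add_mem hu hv
      | smul r u _ hu => rw [smul_eq_mul, mul_assoc, mul_smul r (u * c) w]; exact Submodule.smul_mem _ r hu
    obtain ⟨v, -, hv⟩ := (Submodule.mem_smul_pointwise_iff_exists _ _ _).1
      (smul_mem_of_kill M' hzero x hx1 (hx.mul hx) w K hK hw2)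
    let n : M' := v
    have hwn : w = x • n := hx (show x • w = x • x • n by rw [← mul_smul]; exact hv.symm)
    have hzn : (z : M') = y • n := hx (show x • (z : M') = x • y • n by rw [← hw, hwn, smul_comm])
    have hn : n ∈ N := ⟨K, hK, fun a ha => by
      obtain ⟨u, -, hu⟩ := (Submodule.mem_smul_pointwise_iff_exists _ _ _).1 (hw2 a ha)
      rw [show a • n = x • u from hx (show x • a • n = x • x • u by rw [smul_comm, ← hwn, ← hu, mul_smul])]
      exact Submodule.smul_mem_pointwise_smul _ x _ trivial⟩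
    refine (Submodule.mem_smul_pointwise_iff_exists _ _ _).2 ⟨⟨n, hn⟩, trivial, Subtype.ext hzn.symm⟩

end Groth.Agent.GrLib8.FaltingsDual
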